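import Cfsg.Agent.Lib.Fusion.System.MaxClassWitness
import Cfsg.Agent.Lib.Fusion.PSLThree.Two
import Mathlib.FieldTheory.Finite.GaloisField

/-!
# Groups with maximal-class or wreathed Sylow two-subgroups
-/

set_option autoImplicit false
set_option linter.style.haveILetI false

open Subgroup
open scoped commutatorElement

namespace CfsgLib.Fusion.SmallTwo

open CfsgLib.Fusion.MaxClassWitness (quatToDihedral quatToDihedral_surjective exists_prime)

/-- The image of a perfect group lies in the derived group. -/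
theorem range_le_commutator {G K : Type*} [Group G] [Group K] (j : K →* G)
    (hK : commutator K = ⊤) : j.range ≤ commutator G := by
  rw [MonoidHom.range_eq_map, ← hK, _root_.commutator_def, _root_.commutator_def, map_commutator]
  exact Subgroup.commutator_mono le_top le_top

theorem simple_perfect {G : Type*} [Group G] [IsSimpleGroup G] {a b : G} (h : a * b ≠ b * a) :
    commutator G = ⊤ := by
  have hn : (commutator G).Normal := inferInstance
  refine (IsSimpleGroup.eq_bot_or_eq_top_of_normal _ hn).resolve_left fun hbot => h ?_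
  have hm : ⁅a, b⁆ ∈ commutator G := by
    rw [_root_.commutator_def]
    exact Subgroup.commutator_mem_commutator (mem_top a) (mem_top b)
  rw [hbot, mem_bot, commutatorElement_eq_one_iff_mul_comm] at hm
  exact hm

/-- The two-part of a normal subgroup lies in a Sylow subgroup. -/
theorem dvd_card_inf_normal {G : Type*} [Group G] [Finite G] (T : Sylow 2 G) (N : Subgroup G)
    [N.Normal] {j : ℕ} (h : 2 ^ j ∣ Nat.card N) :
    2 ^ j ∣ Nat.card ((T : Subgroup G) ⊓ N : Subgroup G) := by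
  haveI : Fact (Nat.Prime 2) := ⟨Nat.prime_two⟩
  obtain ⟨H, hH⟩ := Sylow.exists_subgroup_card_pow_prime 2 h
  have hHp : IsPGroup 2 (H.map N.subtype) := (IsPGroup.of_card hH).map _
  obtain ⟨Q, hQ⟩ := hHp.exists_le_sylow
  obtain ⟨g, hg⟩ := MulAction.exists_smul_eq G Q T
  have hmap : (H.map N.subtype).map (MulAut.conj g).toMonoidHom ≤ (T : Subgroup G) ⊓ N := by
    refine le_inf ?_ ?_
    · rintro _ ⟨y, hy, rfl⟩
      rw [← hg]
      exact ⟨y, hQ hy, rfl⟩
    · rintro _ ⟨_, ⟨y, -, rfl⟩, rfl⟩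
      exact (inferInstance : N.Normal).conj_mem _ y.2 g
  refine Dvd.dvd.trans (dvd_of_eq ?_) (Subgroup.card_dvd_of_le hmap)
  rw [Subgroup.card_map_of_injective (MulAut.conj g).injective,
    Subgroup.card_map_of_injective N.subtype_injective, hH]

/-- The quotient of a quaternion Sylow subgroup by a central involution is dihedral. -/
theorem sylow_image_dihedral {G H : Type*} [Group G] [Finite G] [Group H] [Finite H] (π : G →* H)
    (hπ : Function.Surjective π) (hker : Nat.card π.ker = 2) (P : Sylow 2 G) {n : ℕ} [NeZero n]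
    (e : (P : Subgroup G) ≃* QuaternionGroup n) :
    ∃ T : Sylow 2 H, Nonempty ((T : Subgroup H) ≃* DihedralGroup n) := by
  haveI : Fact (Nat.Prime 2) := ⟨Nat.prime_two⟩
  refine ⟨P.mapSurjective hπ, ⟨?_⟩⟩
  let f₁ : (P : Subgroup G) →* DihedralGroup n := (quatToDihedral n).comp e.toMonoidHom
  have hf₁ : Function.Surjective f₁ := (quatToDihedral_surjective n).comp e.surjective
  let f₂ : (P : Subgroup G) →* (P : Subgroup G).map π := π.subgroupMap P
  have hf₂ : Function.Surjective f₂ := π.subgroupMap_surjective _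
  have hkP : π.ker ≤ P := (IsPGroup.of_card (n := 1) (by rw [hker, pow_one])).le_sylow_of_normal P
  have hk₂ : Nat.card f₂.ker = 2 := by
    refine Eq.trans ?_ hker
    exact Nat.card_congr
      { toFun := fun x => ⟨(x.1 : G), congrArg Subtype.val (MonoidHom.mem_ker.1 x.2)⟩
        invFun := fun y => ⟨⟨(y : G), hkP y.2⟩,
          MonoidHom.mem_ker.2 (Subtype.ext (MonoidHom.mem_ker.1 y.2))⟩
        left_inv := fun x => rfl
        right_inv := fun y => rfl }
  have hk₁ : Nat.card f₁.ker = 2 := by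
    have h2 := f₁.ker.card_mul_index
    rw [Subgroup.index_ker, MonoidHom.range_eq_top.2 hf₁, Subgroup.card_top, DihedralGroup.nat_card,
      Nat.card_congr e.toEquiv, Nat.card_eq_fintype_card (α := QuaternionGroup n),
      QuaternionGroup.card] at h2
    have := NeZero.ne n
    exact Nat.eq_of_mul_eq_mul_right (m := 2 * n) (by omega) (by omega)
  have hone : ∀ i : QuaternionGroup n, i * i = 1 → i ≠ 1 →
      i = QuaternionGroup.a (n : ZMod (2 * n)) := by
    haveI : NeZero (2 * n) := ⟨by have := NeZero.ne n; omega⟩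
    rintro (i | i) h h1
    · congr 1
      rw [QuaternionGroup.a_mul_a] at h
      have h' : i + i = 0 := QuaternionGroup.a.inj h
      rw [← ZMod.natCast_zmod_val i, ← Nat.cast_add, ZMod.natCast_eq_zero_iff] at h'
      have hlt := ZMod.val_lt i
      have h0 : i.val ≠ 0 := fun h0 => h1 (by
        rw [← ZMod.natCast_zmod_val i, h0, Nat.cast_zero]; rfl)
      obtain ⟨c, hc⟩ := h'
      have hc' : i.val = n := by
        rcases c with _ | _ | c
        · omega
        · omega
        · rw [Nat.mul_add] at hc; nlinarith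
      rw [← ZMod.natCast_zmod_val i, hc']
    · exfalso
      rw [QuaternionGroup.xa_mul_xa] at h
      have h' : ((n : ZMod (2 * n)) + i - i) = 0 := QuaternionGroup.a.inj h
      rw [add_sub_cancel_right] at h'
      rw [ZMod.natCast_eq_zero_iff] at h'
      have := Nat.le_of_dvd (Nat.pos_of_ne_zero (NeZero.ne n)) h'
      have := NeZero.ne n
      omega
  have hker' : f₁.ker = f₂.ker := by
    have hsq : ∀ {M : Subgroup (P : Subgroup G)}, Nat.card M = 2 → ∀ x ∈ M, x * x = 1 :=
      fun {M} hM x hx => by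
        have h3 := pow_card_eq_one' (G := M) (x := ⟨x, hx⟩)
        rw [hM, sq] at h3
        exact congrArg Subtype.val h3
    have huniq : ∀ x y : (P : Subgroup G), x * x = 1 → y * y = 1 → x ≠ 1 → y ≠ 1 → x = y := by
      intro x y hx hy hx1 hy1
      refine e.injective ((hone _ ?_ ?_).trans (hone _ ?_ ?_).symm)
      · rw [← map_mul, hx, map_one]
      · exact fun h => hx1 (e.injective (h.trans (map_one e).symm))
      · rw [← map_mul, hy, map_one]
      · exact fun h => hy1 (e.injective (h.trans (map_one e).symm))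
    have hle : ∀ {M M' : Subgroup (P : Subgroup G)}, Nat.card M = 2 → Nat.card M' = 2 → M ≤ M' := by
      intro M M' hM hM' x hx
      by_cases hx1 : x = 1
      · rw [hx1]; exact one_mem _
      haveI : Nontrivial M' := Finite.one_lt_card_iff_nontrivial.1 (by rw [hM']; norm_num)
      obtain ⟨⟨y, hy⟩, hy1⟩ := exists_ne (1 : M')
      rw [huniq x y (hsq hM x hx) (hsq hM' y hy) hx1 fun h => hy1 (Subtype.ext h)]
      exact hy
    exact le_antisymm (hle hk₁ hk₂) (hle hk₂ hk₁)
  exact ((QuotientGroup.quotientKerEquivOfSurjective f₁ hf₁).symm.trans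
      ((QuotientGroup.quotientMulEquivOfEq hker').trans
        (QuotientGroup.quotientKerEquivOfSurjective f₂ hf₂))).symm

section SL

variable (q : ℕ) [Fact q.Prime]

theorem odd_card_zmod (h5 : 5 < q) : Odd (Fintype.card (ZMod q)) := by
  rw [ZMod.card]; exact (Fact.out : q.Prime).odd_of_ne_two (by omega)

end SL

/-- The image of the centre of `SL₂` in odd characteristic. -/
theorem card_center_sl_two {F : Type*} [Field F] [Fintype F] (hodd : Odd (Fintype.card F)) :
    Nat.card (Subgroup.center (Matrix.SpecialLinearGroup (Fin 2) F)) = 2 := by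
  rw [CfsgLib.Classical.card_center_sl (by omega)]
  have h := Fintype.one_lt_card (α := F)
  obtain ⟨c, hc⟩ := hodd
  exact Nat.gcd_eq_left ⟨c, by omega⟩

theorem sylow_iso_of_card {F : Type*} [Field F] [Fintype F] (hodd : Odd (Fintype.card F))
    (P : Sylow 2 (Matrix.SpecialLinearGroup (Fin 2) F)) {j r : ℕ}
    (hc : Nat.card (Matrix.SpecialLinearGroup (Fin 2) F) = 2 ^ (j + 2) * r) (hr : Odd r) :
    Nonempty ((P : Subgroup (Matrix.SpecialLinearGroup (Fin 2) F)) ≃* QuaternionGroup (2 ^ j)) := by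
  haveI : Fact (Nat.Prime 2) := ⟨Nat.prime_two⟩
  obtain ⟨k, -, ⟨e⟩⟩ := CfsgLib.Classical.sylow_two_quaternion hodd P
  have h1 : 4 * 2 ^ k = 2 ^ (j + 2) := by
    rw [← CfsgLib.Invol.card_sylow_of_eq P hc hr, Nat.card_congr e.toEquiv,
      Nat.card_eq_fintype_card, QuaternionGroup.card]
  rw [show 2 ^ k = 2 ^ j by rw [pow_add] at h1; omega] at e
  exact ⟨e⟩

/-- Perfect groups with quaternion Sylow subgroups. -/
theorem exists_perfect_quaternion {j : ℕ} (hj : 1 ≤ j) :
    ∃ (G : Type) (_ : Group G) (_ : Finite G) (T : Sylow 2 G),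
      commutator G = ⊤ ∧ Nonempty ((T : Subgroup G) ≃* QuaternionGroup (2 ^ j)) := by
  obtain ⟨q, hq, hq5, -, u, v, hu, hv, hqu, hqv⟩ := exists_prime (j + 1) (by omega)
  haveI := Fact.mk hq
  haveI : Fact (Nat.Prime 2) := ⟨Nat.prime_two⟩
  have hodd := odd_card_zmod q hq5
  obtain ⟨P⟩ : Nonempty (Sylow 2 (Matrix.SpecialLinearGroup (Fin 2) (ZMod q))) := inferInstance
  refine ⟨_, inferInstance, inferInstance, P, (CfsgLib.Classical.sl_perfect_and_psl_simple le_rfl
    (by rw [ZMod.card]; omega)).1, sylow_iso_of_card hodd P (r := q * v * u) ?_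
    (((hq.odd_of_ne_two (by omega)).mul hv).mul hu)⟩
  rw [CfsgLib.Classical.card_sl2, ZMod.card, hqu, hqv]
  ring

/-- Perfect groups with dihedral Sylow subgroups. -/
theorem exists_perfect_dihedral {j : ℕ} (hj : 1 ≤ j) :
    ∃ (G : Type) (_ : Group G) (_ : Finite G) (T : Sylow 2 G),
      commutator G = ⊤ ∧ Nonempty ((T : Subgroup G) ≃* DihedralGroup (2 ^ j)) := by
  obtain ⟨q, hq, hq5, -, u, v, hu, hv, hqu, hqv⟩ := exists_prime (j + 1) (by omega)
  haveI := Fact.mk hq
  haveI : Fact (Nat.Prime 2) := ⟨Nat.prime_two⟩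
  have hodd := odd_card_zmod q hq5
  obtain ⟨P⟩ : Nonempty (Sylow 2 (Matrix.SpecialLinearGroup (Fin 2) (ZMod q))) := inferInstance
  obtain ⟨e⟩ := sylow_iso_of_card hodd P (j := j) (r := q * v * u)
    (by rw [CfsgLib.Classical.card_sl2, ZMod.card, hqu, hqv]; ring)
    (((hq.odd_of_ne_two (by omega)).mul hv).mul hu)
  set π := QuotientGroup.mk' (Subgroup.center (Matrix.SpecialLinearGroup (Fin 2) (ZMod q))) with hπ
  haveI : NeZero (2 ^ j) := ⟨by positivity⟩
  obtain ⟨T, hT⟩ := sylow_image_dihedral π (QuotientGroup.mk'_surjective _)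
    (by rw [hπ, QuotientGroup.ker_mk', card_center_sl_two hodd]) P e
  refine ⟨_, inferInstance, inferInstance, T, ?_, hT⟩
  refine top_le_iff.1 ?_
  rw [← MonoidHom.range_eq_top.2 (QuotientGroup.mk'_surjective
    (Subgroup.center (Matrix.SpecialLinearGroup (Fin 2) (ZMod q))))]
  exact range_le_commutator _ (CfsgLib.Classical.sl_perfect_and_psl_simple le_rfl
    (by rw [ZMod.card]; omega)).1

/-- Groups with a perfect subgroup of index two and quaternion Sylow subgroups, with a central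
involution. -/
theorem exists_index_two_quaternion {j : ℕ} (hj : 2 ≤ j) :
    ∃ (G : Type) (_ : Group G) (_ : Finite G) (T : Sylow 2 G) (N : Subgroup G),
      N.Normal ∧ N.index = 2 ∧ N ≤ commutator G ∧
      Nonempty ((T : Subgroup G) ≃* QuaternionGroup (2 ^ j)) ∧
      ∃ Z : Subgroup G, Z.Normal ∧ Nat.card Z = 2 ∧ Z ≤ N := by
  classical
  obtain ⟨q, hq, hq5, hq4, u, v, hu, hv, hqu, hqv⟩ := exists_prime j hj
  haveI := Fact.mk hq
  haveI : Fact (Nat.Prime 2) := ⟨Nat.prime_two⟩
  let K := GaloisField q 2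
  haveI : Fintype K := Fintype.ofFinite K
  have hcK : Fintype.card K = q * q := by
    rw [← Nat.card_eq_fintype_card, GaloisField.card q 2 two_ne_zero, pow_two]
  have hoddq : Odd q := hq.odd_of_ne_two (by omega)
  have hoddK : Odd (Fintype.card K) := by rw [hcK]; exact hoddq.mul hoddq
  have h2K : (2 : K) ≠ 0 := CfsgLib.Classical.two_ne_zero_of_odd_card hoddK
  let σ : Matrix.SpecialLinearGroup (Fin 2) K →* Matrix.SpecialLinearGroup (Fin 2) K :=
    Matrix.SpecialLinearGroup.map (frobenius K q)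
  set G₁ : Subgroup (Matrix.SpecialLinearGroup (Fin 2) K) :=
    { carrier := {X | σ X = X ∨ σ X = -X}
      one_mem' := Or.inl (map_one σ)
      mul_mem' := by
        rintro X Y (hX | hX) (hY | hY)
        · exact Or.inl (by rw [map_mul, hX, hY])
        · exact Or.inr (by rw [map_mul, hX, hY, mul_neg])
        · exact Or.inr (by rw [map_mul, hX, hY, neg_mul])
        · exact Or.inl (by rw [map_mul, hX, hY, neg_mul_neg])
      inv_mem' := by
        rintro X (hX | hX)
        · exact Or.inl (by rw [map_inv, hX])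
        · refine Or.inr ?_
          rw [map_inv, hX]
          exact inv_eq_of_mul_eq_one_right (by rw [neg_mul_neg, mul_inv_cancel]) } with hG₁
  let j₀ : Matrix.SpecialLinearGroup (Fin 2) (ZMod q) →* Matrix.SpecialLinearGroup (Fin 2) K :=
    Matrix.SpecialLinearGroup.map (algebraMap (ZMod q) K)
  have hfrob : ∀ a : ZMod q, frobenius K q (algebraMap (ZMod q) K a) = algebraMap (ZMod q) K a :=
    fun a => by rw [frobenius_def, ← map_pow, ZMod.pow_card]
  have hj₀ : ∀ X, σ (j₀ X) = j₀ X := fun X => Subtype.ext (Matrix.ext fun a b => hfrob (X.1 a b))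
  have hj₀inj : Function.Injective j₀ := fun X Y h => Subtype.ext (Matrix.ext fun a b =>
    (algebraMap (ZMod q) K).injective (congrFun (congrFun (congrArg Subtype.val h) a) b :))
  let j₁ : Matrix.SpecialLinearGroup (Fin 2) (ZMod q) →* G₁ := j₀.codRestrict G₁ fun X => Or.inl (hj₀ X)
  have hrange : ∀ X : G₁, X ∈ j₁.range ↔ σ (X : Matrix.SpecialLinearGroup (Fin 2) K) = X := by
    intro X
    constructor
    · rintro ⟨Y, rfl⟩; exact hj₀ Y
    · intro hX
      have hmem : ∀ a b, ∃ c : ZMod q,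
          algebraMap (ZMod q) K c = (X : Matrix.SpecialLinearGroup (Fin 2) K).1 a b := by
        intro a b
        have h : (X : Matrix.SpecialLinearGroup (Fin 2) K).1 a b ^ q =
            (X : Matrix.SpecialLinearGroup (Fin 2) K).1 a b :=
          congrFun (congrFun (congrArg Subtype.val hX) a) b
        exact (bot_le : (⊥ : Subfield K) ≤ (algebraMap (ZMod q) K).fieldRange)
          ((Subfield.mem_bot_iff_pow_eq_self (F := K) (p := q)).2 h)
      choose c hc using hmem
      refine ⟨⟨Matrix.of c, (algebraMap (ZMod q) K).injective ?_⟩,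
        Subtype.ext (Subtype.ext (Matrix.ext hc))⟩
      rw [RingHom.map_det, map_one, show (algebraMap (ZMod q) K).mapMatrix (Matrix.of c) =
        (X : Matrix.SpecialLinearGroup (Fin 2) K).1 from Matrix.ext hc]
      exact (X : Matrix.SpecialLinearGroup (Fin 2) K).2
  have hperf := (CfsgLib.Classical.sl_perfect_and_psl_simple (F := ZMod q) (n := 2) le_rfl
    (by rw [ZMod.card]; omega)).1
  haveI hN : j₁.range.Normal := ⟨fun X hX Y => by
    rw [hrange] at hX ⊢
    rcases Y.2 with hY | hY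
    · simp [hX, hY]
    · simp only [Subgroup.coe_mul, Subgroup.coe_inv, map_mul, map_inv, hX, hY]
      rw [show (-(Y : Matrix.SpecialLinearGroup (Fin 2) K))⁻¹ = -(Y : Matrix.SpecialLinearGroup (Fin 2) K)⁻¹
        from inv_eq_of_mul_eq_one_right (by rw [neg_mul_neg, mul_inv_cancel]), neg_mul, neg_mul_neg]⟩
  -- an element with `σ X = -X`
  obtain ⟨μ, hμ0, hμ⟩ : ∃ μ : K, μ ≠ 0 ∧ μ ^ q = -μ := by
    obtain ⟨g, hg⟩ := IsCyclic.exists_ofOrder_eq_natCard (α := Kˣ)
    rw [Nat.card_units, Nat.card_eq_fintype_card, hcK] at hg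
    set w := g ^ ((q + 1) / 2) with hw
    refine ⟨(w : K), w.ne_zero, ?_⟩
    have hq1 : 2 ∣ q + 1 := by obtain ⟨c, rfl⟩ := hoddq; exact ⟨c + 1, by ring⟩
    have hsq : ((w : K) ^ (q - 1)) * (w : K) ^ (q - 1) = 1 := by
      rw [← pow_add, ← Units.val_pow_eq_pow_val, hw, ← pow_mul,
        show (q + 1) / 2 * (q - 1 + (q - 1)) = (q + 1) / 2 * 2 * (q - 1) by ring,
        Nat.div_mul_cancel hq1, show (q + 1) * (q - 1) = q * q - 1 by
          simpa using (Nat.mul_self_sub_mul_self_eq q 1).symm, ← hg, pow_orderOf_eq_one, Units.val_one]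
    have hne : (w : K) ^ (q - 1) ≠ 1 := by
      intro h
      rw [← Units.val_pow_eq_pow_val, Units.val_eq_one, hw, ← pow_mul,
        ← orderOf_dvd_iff_pow_eq_one, hg] at h
      have hpos : 0 < (q + 1) / 2 * (q - 1) := Nat.mul_pos (by omega) (by omega)
      have hlt : (q + 1) / 2 * (q - 1) < q * q - 1 := by
        have h1 : q * q - 1 = (q + 1) / 2 * (q - 1) * 2 := by
          rw [show (q + 1) / 2 * (q - 1) * 2 = (q + 1) / 2 * 2 * (q - 1) by ring,
            Nat.div_mul_cancel hq1]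
          simpa using Nat.mul_self_sub_mul_self_eq q 1
        omega
      exact absurd (Nat.le_of_dvd hpos h) (not_le.2 hlt)
    have hneg := (mul_self_eq_one_iff.1 hsq).resolve_left hne
    calc (w : K) ^ q = (w : K) ^ (q - 1) * w := by rw [← pow_succ, Nat.sub_add_cancel hq.one_le]
      _ = -(w : K) := by rw [hneg, neg_one_mul]
  let W : Matrix.SpecialLinearGroup (Fin 2) K := ⟨!![μ, 0; 0, μ⁻¹], by
    rw [Matrix.det_fin_two_of, mul_zero, sub_zero]; exact mul_inv_cancel₀ hμ0⟩
  have hσW : σ W = -W := by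
    refine Subtype.ext (Matrix.ext fun a b => ?_)
    show frobenius K q (W.1 a b) = -(W.1 a b)
    fin_cases a <;> fin_cases b <;> simp [W, frobenius_def, hμ, hq.ne_zero, inv_pow]
  have hne : ∀ X : Matrix.SpecialLinearGroup (Fin 2) K, X ≠ -X := by
    intro X h
    have h1 : (1 : Matrix.SpecialLinearGroup (Fin 2) K) = -1 := by
      have := congrArg (· * X⁻¹) h
      simpa using this
    have h2 : (1 : K) = -1 := congrFun (congrFun (congrArg Subtype.val h1) 0) 0
    exact h2K (by linear_combination h2)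
  have hindex : j₁.range.index = 2 := by
    refine Subgroup.index_eq_two_iff.2 ⟨⟨W, Or.inr hσW⟩, fun X => ?_⟩
    rw [hrange, hrange]
    simp only [Subgroup.coe_mul, map_mul, hσW]
    rcases X.2 with hX | hX
    · refine Or.inr ⟨hX, ?_⟩
      rw [hX, mul_neg]
      exact (hne _).symm
    · refine Or.inl ⟨by rw [hX, neg_mul_neg], ?_⟩
      rw [hX]
      exact (hne _).symm
  have hcardN : Nat.card j₁.range = q * ((q - 1) * (q + 1)) := by
    rw [← Nat.card_congr (MonoidHom.ofInjective (fun X Y h => hj₀inj (congrArg Subtype.val h) :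
      Function.Injective j₁)).toEquiv, CfsgLib.Classical.card_sl2, ZMod.card]
  have hcardG : Nat.card G₁ = 2 ^ (j + 2) * (q * v * u) := by
    rw [← j₁.range.card_mul_index, hindex, hcardN, hqu, hqv]
    ring
  have hr : Odd (q * v * u) := (hoddq.mul hv).mul hu
  obtain ⟨T⟩ : Nonempty (Sylow 2 G₁) := inferInstance
  have hT : Nat.card (T : Subgroup G₁) = 2 ^ (j + 2) := CfsgLib.Invol.card_sylow_of_eq T hcardG hr
  obtain ⟨P, hP⟩ := (T.2.map G₁.subtype).exists_le_sylow
  obtain ⟨c, hc⟩ : ∃ c, q * q + 1 = 2 * c ∧ Odd c := by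
    obtain ⟨d, rfl⟩ := hoddq
    exact ⟨2 * (d * d + d) + 1, by ring, ⟨d * d + d, rfl⟩⟩
  have hcardK : Nat.card (Matrix.SpecialLinearGroup (Fin 2) K) =
      2 ^ (j + 2) * (q * q * (v * u) * c) := by
    rw [CfsgLib.Classical.card_sl2, hcK, hc.1, show q * q - 1 = (q + 1) * (q - 1) by
      simpa using Nat.mul_self_sub_mul_self_eq q 1, hqu, hqv]
    ring
  have hrK : Odd (q * q * (v * u) * c) := ((hoddq.mul hoddq).mul (hv.mul hu)).mul hc.2
  obtain ⟨eP⟩ := sylow_iso_of_card hoddK P hcardK hrK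
  have heq : (T : Subgroup G₁).map G₁.subtype = (P : Subgroup (Matrix.SpecialLinearGroup (Fin 2) K)) := by
    refine Subgroup.eq_of_le_of_card_ge hP ?_
    rw [CfsgLib.Invol.card_sylow_of_eq P hcardK hrK,
      Subgroup.card_map_of_injective G₁.subtype_injective, hT]
  have eT : (T : Subgroup G₁) ≃* QuaternionGroup (2 ^ j) :=
    ((Subgroup.equivMapOfInjective _ _ G₁.subtype_injective).trans
      (MulEquiv.subgroupCongr heq)).trans eP
  refine ⟨G₁, inferInstance, inferInstance, T, j₁.range, hN, hindex,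
    range_le_commutator _ hperf, ⟨eT⟩, ?_⟩
  have hn1 : σ (-1 : Matrix.SpecialLinearGroup (Fin 2) K) = -1 := by
    have h : (-1 : Matrix.SpecialLinearGroup (Fin 2) K) = j₀ (-1) :=
      Subtype.ext (Matrix.ext fun a b => by fin_cases a <;> fin_cases b <;> simp [j₀])
    rw [h]; exact hj₀ _
  set z : G₁ := ⟨-1, Or.inl hn1⟩ with hz
  have hzc : ∀ X : G₁, X * z = z * X := fun X => Subtype.ext (by
    show (X : Matrix.SpecialLinearGroup (Fin 2) K) * -1 = -1 * X
    rw [mul_neg, neg_mul, mul_one, one_mul])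
  have hzo : orderOf z = 2 := by
    refine orderOf_eq_prime ?_ fun h => hne 1 (congrArg Subtype.val h).symm
    refine Subtype.ext ?_
    show (-1 : Matrix.SpecialLinearGroup (Fin 2) K) ^ 2 = 1
    rw [pow_two, neg_mul_neg, one_mul]
  refine ⟨zpowers z, ⟨fun w hw g => ?_⟩, by rw [Nat.card_zpowers, hzo],
    zpowers_le.2 ((hrange z).2 hn1)⟩
  obtain ⟨i, rfl⟩ := mem_zpowers_iff.1 hw
  rw [← conj_zpow, hzc g, mul_inv_cancel_right]
  exact zpow_mem (mem_zpowers z) i

/-- Groups with a perfect subgroup of index two and dihedral Sylow subgroups. -/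
theorem exists_index_two_dihedral {j : ℕ} (hj : 2 ≤ j) :
    ∃ (G : Type) (_ : Group G) (_ : Finite G) (T : Sylow 2 G) (N : Subgroup G),
      N.Normal ∧ N.index = 2 ∧ N ≤ commutator G ∧
      Nonempty ((T : Subgroup G) ≃* DihedralGroup (2 ^ j)) := by
  obtain ⟨G, hG, hGf, P, N, hN, hi, hNc, ⟨e⟩, Z, hZ, hZc, hZN⟩ := exists_index_two_quaternion hj
  haveI := hZ
  haveI := hN
  haveI : NeZero (2 ^ j) := ⟨by positivity⟩
  obtain ⟨T, hT⟩ := sylow_image_dihedral (QuotientGroup.mk' Z) (QuotientGroup.mk'_surjective _)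
    (by rw [QuotientGroup.ker_mk', hZc]) P e
  refine ⟨G ⧸ Z, inferInstance, inferInstance, T, N.map (QuotientGroup.mk' Z),
    hN.map _ (QuotientGroup.mk'_surjective _), ?_, ?_, hT⟩
  · rw [Subgroup.index_map_eq _ (QuotientGroup.mk'_surjective _) (by rw [QuotientGroup.ker_mk']; exact hZN),
      hi]
  · refine (Subgroup.map_mono hNc).trans ?_
    rw [_root_.commutator_def, _root_.commutator_def, map_commutator]
    exact Subgroup.commutator_mono le_top le_top

/-- Primes with prescribed two-part of `q - 1`. -/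
theorem exists_prime_one (m : ℕ) (hm : 2 ≤ m) :
    ∃ q : ℕ, q.Prime ∧ 5 < q ∧ q % 4 = 1 ∧
      ∃ u v, Odd u ∧ Odd v ∧ q - 1 = 2 ^ m * u ∧ q + 1 = 2 * v := by
  have hcop : Nat.Coprime (2 ^ m + 1) (2 ^ (m + 1)) := by
    refine Nat.Coprime.pow_right _ (Nat.coprime_two_right.2 (Nat.odd_iff.2 ?_))
    have : 2 ∣ 2 ^ m := dvd_pow_self 2 (by omega)
    omega
  obtain ⟨q, hq5, hq, hmod⟩ := Nat.forall_exists_prime_gt_and_modEq 5 (pow_ne_zero _ two_ne_zero) hcop
  have hlt : 2 ^ m + 1 < 2 ^ (m + 1) := by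
    have : 2 ≤ 2 ^ m := (by norm_num : 2 = 2 ^ 1).le.trans (Nat.pow_le_pow_right two_pos (by omega))
    rw [pow_succ]; omega
  set c := q / 2 ^ (m + 1)
  have h4 : q = 2 ^ m * (2 * c + 1) + 1 := by
    conv_lhs => rw [← Nat.mod_add_div q (2 ^ (m + 1)), hmod, Nat.mod_eq_of_lt hlt]
    ring
  have h5 : 4 ∣ 2 ^ m * (2 * c + 1) := Dvd.dvd.mul_right (pow_dvd_pow 2 hm) _
  refine ⟨q, hq, hq5, by omega, 2 * c + 1, (q + 1) / 2, ⟨c, rfl⟩, Nat.odd_iff.2 ?_, by omega, ?_⟩
    <;> omega

section GLTwo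

variable {F : Type} [Field F] [Fintype F]

theorem psl_three_perfect (hodd : Fintype.card F % 2 = 1) (h3 : 3 < Fintype.card F) :
    commutator (Matrix.ProjectiveSpecialLinearGroup (Fin 3) F) = ⊤ := by
  have h := (CfsgLib.Classical.sl_perfect_and_psl_simple (F := F) (n := 3) (by omega)
    (by omega)).1
  refine top_le_iff.1 ?_
  rw [← MonoidHom.range_eq_top.2 (QuotientGroup.mk'_surjective
    (Subgroup.center (Matrix.SpecialLinearGroup (Fin 3) F)))]
  exact range_le_commutator _ h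

theorem gl_two_data (hodd : Fintype.card F % 2 = 1) (h3 : 3 < Fintype.card F)
    (T : Sylow 2 (GL (Fin 2) F)) {j : ℕ} (hj : 2 ^ j ∣ Nat.card (Matrix.SpecialLinearGroup (Fin 2) F)) :
    (∃ c ∈ (T : Subgroup (GL (Fin 2) F)), c * c = 1 ∧ c ≠ 1 ∧ ∀ g : GL (Fin 2) F, g * c = c * g) ∧
      2 ^ j ∣ Nat.card ((T : Subgroup (GL (Fin 2) F)) ⊓ commutator (GL (Fin 2) F) : Subgroup _) := by
  haveI : Fact (Nat.Prime 2) := ⟨Nat.prime_two⟩
  have h2 : (2 : F) ≠ 0 := CfsgLib.Classical.two_ne_zero_of_odd_card (Nat.odd_iff.2 hodd)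
  constructor
  · have hc : ∀ g : GL (Fin 2) F, g * -1 = -1 * g := fun g => by
      rw [mul_neg, neg_mul, mul_one, one_mul]
    have hcc : (-1 : GL (Fin 2) F) * -1 = 1 := by rw [neg_mul_neg, one_mul]
    have hne : (-1 : GL (Fin 2) F) ≠ 1 := fun h => h2 (by
      have h'' : ((-1 : GL (Fin 2) F) : Matrix (Fin 2) (Fin 2) F) = 1 := congrArg Units.val h
      have h' : (-1 : F) = 1 := by simpa using congrFun (congrFun h'' 0) 0
      linear_combination -h')
    refine ⟨-1, ?_, hcc, hne, hc⟩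
    have hp : IsPGroup 2 (zpowers (-1 : GL (Fin 2) F)) := IsPGroup.of_card (n := 1) (by
      rw [Nat.card_zpowers, pow_one, orderOf_eq_prime (by rw [pow_two]; exact hcc) hne])
    haveI : (zpowers (-1 : GL (Fin 2) F)).Normal := ⟨fun w hw g => by
      obtain ⟨i, rfl⟩ := mem_zpowers_iff.1 hw
      rw [← conj_zpow, hc g, mul_inv_cancel_right]
      exact zpow_mem (mem_zpowers _) i⟩
    exact hp.le_sylow_of_normal T (mem_zpowers _)
  · have hinj : Function.Injective (Matrix.SpecialLinearGroup.toGL :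
        Matrix.SpecialLinearGroup (Fin 2) F →* GL (Fin 2) F) :=
      fun a b h => Subtype.ext (congrArg Units.val h)
    have hperf := (CfsgLib.Classical.sl_perfect_and_psl_simple (F := F) (n := 2) le_rfl
      (by omega)).1
    refine dvd_card_inf_normal T (commutator (GL (Fin 2) F)) (hj.trans ?_)
    rw [Nat.card_congr (MonoidHom.ofInjective hinj).toEquiv]
    exact Subgroup.card_dvd_of_le (range_le_commutator _ hperf)

end GLTwo

/-- Groups with semidihedral Sylow subgroups: a perfect one, and one with a central involution. -/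
theorem exists_groups_semidihedral {k : ℕ} (hk : 3 ≤ k) :
    (∃ (G : Type) (_ : Group G) (_ : Finite G) (T : Sylow 2 G),
      commutator G = ⊤ ∧ Cfsg.IsQuasiDihedral (T : Subgroup G) ∧
      Nat.card (T : Subgroup G) = 2 ^ (k + 1)) ∧
    (∃ (G : Type) (_ : Group G) (_ : Finite G) (T : Sylow 2 G),
      Cfsg.IsQuasiDihedral (T : Subgroup G) ∧ Nat.card (T : Subgroup G) = 2 ^ (k + 1) ∧
      (∃ c ∈ (T : Subgroup G), c * c = 1 ∧ c ≠ 1 ∧ ∀ g : G, g * c = c * g) ∧
      2 ^ k ∣ Nat.card ((T : Subgroup G) ⊓ commutator G : Subgroup G)) := by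
  classical
  obtain ⟨q, hq, hq5, hq4, u, v, hu, hv, hqu, hqv⟩ := exists_prime (k - 1) (by omega)
  haveI := Fact.mk hq
  haveI : Fact (Nat.Prime 2) := ⟨Nat.prime_two⟩
  have hcF : Fintype.card (ZMod q) = q := ZMod.card q
  obtain ⟨P⟩ : Nonempty (Sylow 2 (GL (Fin 2) (ZMod q))) := inferInstance
  have hP := CfsgLib.Invol.isQuasiDihedral_GL_two P (by rw [hcF]; exact hq4)
  have hcard : Nat.card (P : Subgroup (GL (Fin 2) (ZMod q))) = 2 ^ (k + 1) := by
    refine CfsgLib.Invol.card_sylow_of_eq P (r := q * v * v * u) ?_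
      ((((hq.odd_of_ne_two (by omega)).mul hv).mul hv).mul hu)
    rw [CfsgLib.Classical.card_gl2, hcF, hqu, hqv, show k + 1 = k - 1 + 1 + 1 by omega, pow_succ,
      pow_succ]
    ring
  obtain ⟨hc, hd⟩ := gl_two_data (F := ZMod q) (by rw [hcF]; omega) (by rw [hcF]; omega) P (j := k) (by
    rw [CfsgLib.Classical.card_sl2, hcF, hqu, hqv]
    refine Dvd.intro (q * (v * u)) ?_
    rw [show 2 ^ k = 2 ^ (k - 1) * 2 by rw [← pow_succ]; congr 1; omega]
    ring)
  refine ⟨?_, ⟨_, inferInstance, inferInstance, P, hP, hcard, hc, hd⟩⟩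
  obtain ⟨T, -, ⟨e⟩⟩ := CfsgLib.PSLThreeTwo.exists_sylow_image (F := ZMod q) (by rw [hcF]; omega) P
  refine ⟨_, inferInstance, inferInstance, T, psl_three_perfect (by rw [hcF]; omega)
    (by rw [hcF]; omega), ?_, by rw [← Nat.card_congr e.toEquiv, hcard]⟩
  obtain ⟨n, hn, hc', x, y, hx, hy, hxy⟩ := hP
  exact ⟨n, hn, by rw [← Nat.card_congr e.toEquiv, hc'], e x, e y, by rw [MulEquiv.orderOf_eq, hx],
    by rw [MulEquiv.orderOf_eq, hy], by rw [← map_inv, ← map_mul, ← map_mul, hxy, map_pow]⟩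

/-- Groups with wreathed Sylow subgroups: a perfect one, and one with a central involution. -/
theorem exists_groups_wreathed {n : ℕ} (hn : 2 ≤ n) :
    (∃ (G : Type) (_ : Group G) (_ : Finite G) (T : Sylow 2 G),
      commutator G = ⊤ ∧ Cfsg.IsWreathed (T : Subgroup G) ∧
      Nat.card (T : Subgroup G) = 2 ^ (2 * n + 1)) ∧
    (∃ (G : Type) (_ : Group G) (_ : Finite G) (T : Sylow 2 G),
      Cfsg.IsWreathed (T : Subgroup G) ∧ Nat.card (T : Subgroup G) = 2 ^ (2 * n + 1) ∧
      (∃ c ∈ (T : Subgroup G), c * c = 1 ∧ c ≠ 1 ∧ ∀ g : G, g * c = c * g) ∧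
      2 ^ (n + 1) ∣ Nat.card ((T : Subgroup G) ⊓ commutator G : Subgroup G)) := by
  classical
  obtain ⟨q, hq, hq5, hq4, u, v, hu, hv, hqu, hqv⟩ := exists_prime_one n hn
  haveI := Fact.mk hq
  haveI : Fact (Nat.Prime 2) := ⟨Nat.prime_two⟩
  have hcF : Fintype.card (ZMod q) = q := ZMod.card q
  obtain ⟨P⟩ : Nonempty (Sylow 2 (GL (Fin 2) (ZMod q))) := inferInstance
  have hP := CfsgLib.Invol.isWreathed_GL_two P (by rw [hcF]; exact hq4)
  have hcard : Nat.card (P : Subgroup (GL (Fin 2) (ZMod q))) = 2 ^ (2 * n + 1) := by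
    refine CfsgLib.Invol.card_sylow_of_eq P (r := q * u * u * v) ?_
      ((((hq.odd_of_ne_two (by omega)).mul hu).mul hu).mul hv)
    rw [CfsgLib.Classical.card_gl2, hcF, hqu, hqv, pow_succ, two_mul, pow_add]
    ring
  obtain ⟨hc, hd⟩ := gl_two_data (F := ZMod q) (by rw [hcF]; omega) (by rw [hcF]; omega) P
    (j := n + 1) (by
      rw [CfsgLib.Classical.card_sl2, hcF, hqu, hqv, pow_succ]
      exact Dvd.intro (q * (u * v)) (by ring))
  refine ⟨?_, ⟨_, inferInstance, inferInstance, P, hP, hcard, hc, hd⟩⟩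
  obtain ⟨T, -, ⟨e⟩⟩ := CfsgLib.PSLThreeTwo.exists_sylow_image (F := ZMod q) (by rw [hcF]; omega) P
  refine ⟨_, inferInstance, inferInstance, T, psl_three_perfect (by rw [hcF]; omega)
    (by rw [hcF]; omega), ?_, by rw [← Nat.card_congr e.toEquiv, hcard]⟩
  obtain ⟨k, hk, hc', x, y, z, hx, hxy, hdis, hz, hzx⟩ := hP
  refine ⟨k, hk, by rw [← Nat.card_congr e.toEquiv, hc'], e x, e y, e z,
    by rw [MulEquiv.orderOf_eq, hx], by rw [← map_mul, hxy, map_mul], ?_,
    by rw [MulEquiv.orderOf_eq, hz], by rw [← map_inv, ← map_mul, ← map_mul, hzx]⟩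
  rw [eq_bot_iff]
  rintro w ⟨hw1, hw2⟩
  obtain ⟨i, hi⟩ := mem_zpowers_iff.1 hw1
  obtain ⟨i', hi'⟩ := mem_zpowers_iff.1 hw2
  rw [← map_zpow] at hi hi'
  have h : x ^ i ∈ zpowers x ⊓ zpowers y :=
    ⟨zpow_mem (mem_zpowers x) i, mem_zpowers_iff.2 ⟨i', e.injective (hi'.trans hi.symm)⟩⟩
  rw [hdis, mem_bot] at h
  rw [mem_bot, ← hi, h, map_one]

end CfsgLib.Fusion.SmallTwo
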